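import Cfsg.Agent.H64.U6E.Assemble
import Cfsg.Agent.H35.U6E.Two
import Cfsg.Agent.H35.U6E.Glue

/-!
The subgroup of index two in the case with two fixed dimensions (helper64).
-/

set_option autoImplicit false
set_option maxRecDepth 100000

namespace H64.U6E

open H38.U6C H35.U6E

universe u v

theorem squareStmt : SquareStmt.{u} := by
  intro G _ _ z J H₀ m t φ ρ g hc hr E ht
  exact H35.U6E.four_dvd hc hr E ht

/-- The subgroup of index two from the coordinates. -/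
theorem indexTwo {G : Type u} [Group G] [Finite G] {z : G}
    {J H₀ : Subgroup G} {m : Bool} {t : Fin 4} {φ : G → V}
    {ρ : ↥(Subgroup.centralizer ({z} : Set G)) →* Equiv.Perm V}
    (hc : FixCtx z J H₀ m t φ ρ) (hr : refl8 3 ∉ oGroup)
    (hperf : ∀ f : ↥H₀ →* ℤˣ, (∀ j : ↥H₀, (j : G) ∈ J → f j = 1) → f = 1) :
    ∃ G₀ : Subgroup G, G₀.index = 2 ∧ G₀ ⊓ Subgroup.centralizer ({z} : Set G) = H₀ :=
  indexTwo_of_square squareStmt hc hr hperf

/-- The subgroup of index two in the case with two fixed dimensions. -/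
theorem indexTwoFixed (hF8 : Fix8Stmt.{u, v}) {G : Type u} [Group G] [Finite G] {F : Type v}
    [Field F] [Fintype F] {z : G} {J H₀ : Subgroup G} {π : ↥H₀ →* Cfsg.PSp 2 F}
    (S : H2.U6E.Setup z J H₀ π) (U : Subgroup ↥H₀)
    (hU : Fixed2 (G := ↥H₀) ⟨z, S.J_le S.z_mem⟩ (J.subgroupOf H₀) U) :
    ∃ G₀ : Subgroup G, G₀.index = 2 ∧ G₀ ⊓ Subgroup.centralizer ({z} : Set G) = H₀ := by
  obtain ⟨m, t, φ, ρ, hc, hr, hperf⟩ := H35.U6E.exists_data S S.inner hF8 hU
  exact indexTwo hc hr hperf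

end H64.U6E
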