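import Cfsg.Agent.H64.U6E.Parity

/-!
The sign of an element at a coset it fixes (helper64).
-/

set_option autoImplicit false
set_option linter.unusedSectionVars false

namespace H64.U6E

open MulAction

universe u

variable {G : Type u} [Group G] {z : G} {H₀ : Subgroup G}
  {c : G ⧸ (Subgroup.centralizer ({z} : Set G))}

theorem conj_mem_of_fix {a : G} (ha : a • c = c) :
    c.out⁻¹ * a * c.out ∈ Subgroup.centralizer ({z} : Set G) := by
  rw [← QuotientGroup.out_eq' c, MulAction.Quotient.smul_coe, smul_eq_mul, eq_comm,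
    QuotientGroup.eq, ← mul_assoc] at ha
  exact ha

theorem out_mul_iff (hidx : H₀.relIndex (Subgroup.centralizer ({z} : Set G)) = 2)
    {a b : G} (ha : a • c = c) (hb : b • c = c) :
    Out H₀ c (a * b) ↔ ¬ (Out H₀ c a ↔ Out H₀ c b) := by
  have h := Subgroup.mul_mem_iff_of_index_two
    (H := H₀.subgroupOf (Subgroup.centralizer ({z} : Set G))) hidx
    (a := ⟨_, conj_mem_of_fix ha⟩) (b := ⟨_, conj_mem_of_fix hb⟩)
  rw [Subgroup.mem_subgroupOf, Subgroup.mem_subgroupOf, Subgroup.mem_subgroupOf,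
    Subgroup.coe_mul] at h
  unfold Out
  rw [show c.out⁻¹ * (a * b) * c.out = c.out⁻¹ * a * c.out * (c.out⁻¹ * b * c.out) by group, h]
  tauto

theorem sq_not_out (hidx : H₀.relIndex (Subgroup.centralizer ({z} : Set G)) = 2)
    {a : G} (ha : a • c = c) : ¬ Out H₀ c (a * a) := by
  rw [out_mul_iff hidx ha ha]
  exact not_not_intro Iff.rfl

theorem not_out_one : ¬ Out H₀ c 1 := fun h => h (by
  rw [mul_one, inv_mul_cancel]; exact H₀.one_mem)

theorem out_conj (hidx : H₀.relIndex (Subgroup.centralizer ({z} : Set G)) = 2)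
    (hle : H₀ ≤ Subgroup.centralizer ({z} : Set G)) {x : G} (hx : x • c = c) (a : G) :
    Out H₀ c (x * a * x⁻¹) ↔ Out H₀ c a := by
  have := out_smul hidx hle x c a
  rwa [hx] at this

/-- A coset fixed by the involution itself differs from it unless it is the base coset. -/
theorem eq_base_of_pnt (h : pnt c = z) :
    c = ((1 : G) : G ⧸ (Subgroup.centralizer ({z} : Set G))) :=
  pnt_injective (h.trans pnt_one.symm)

theorem pnt_sq (hz : z * z = 1) (c : G ⧸ (Subgroup.centralizer ({z} : Set G))) :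
    pnt c * pnt c = 1 := by
  rw [pnt, show c.out * z * c.out⁻¹ * (c.out * z * c.out⁻¹) = c.out * (z * z) * c.out⁻¹ by group,
    hz, mul_one, mul_inv_cancel]

theorem pnt_ne_one (hz : z ≠ 1) (c : G ⧸ (Subgroup.centralizer ({z} : Set G))) : pnt c ≠ 1 :=
  fun h => hz (conj_eq_one_iff.1 h)

end H64.U6E
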