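import Mathlib.GroupTheory.Transfer
import Mathlib.GroupTheory.PGroup
import Mathlib.GroupTheory.IndexNormal

/-!
The transfer to an index-two subgroup of an involution centraliser, evaluated by counting the
cosets by period (helper64).
-/

set_option autoImplicit false
set_option linter.style.haveILetI false
set_option linter.unusedSectionVars false

namespace H64.U6E

open MulAction Function

universe u

variable {G : Type u} [Group G] {z : G} {H₀ : Subgroup G}

/-- The sign character of an index-two subgroup of the centraliser. -/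
noncomputable def chi (H₀ : Subgroup G) (hidx : H₀.relIndex (Subgroup.centralizer ({z} : Set G)) = 2) : ↥(Subgroup.centralizer ({z} : Set G)) →* ℤˣ :=
  haveI := Classical.propDecidable
  { toFun := fun c => if (c : G) ∈ H₀ then 1 else -1
    map_one' := if_pos H₀.one_mem
    map_mul' := fun a b => by
      have h : ((a * b : ↥(Subgroup.centralizer ({z} : Set G))) : G) ∈ H₀ ↔ ((a : G) ∈ H₀ ↔ (b : G) ∈ H₀) :=
        Subgroup.mul_mem_iff_of_index_two (H := H₀.subgroupOf (Subgroup.centralizer ({z} : Set G))) hidx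
      simp only [h]
      by_cases ha : (a : G) ∈ H₀ <;> by_cases hb : (b : G) ∈ H₀ <;> simp [ha, hb] }

/-- The conjugate of `g` at the coset `c` is outside `H₀`. -/
def Out (H₀ : Subgroup G) (c : G ⧸ (Subgroup.centralizer ({z} : Set G))) (g : G) : Prop := c.out⁻¹ * g * c.out ∉ H₀

/-- The conjugate of `z` attached to a coset. -/
noncomputable def pnt (c : G ⧸ (Subgroup.centralizer ({z} : Set G))) : G := c.out * z * c.out⁻¹

theorem smul_eq_iff (g : G) (c : G ⧸ (Subgroup.centralizer ({z} : Set G))) : g • c = c ↔ Commute g (pnt c) := by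
  conv_lhs => rw [← QuotientGroup.out_eq' c]
  rw [MulAction.Quotient.smul_coe, smul_eq_mul, eq_comm, QuotientGroup.eq, ← mul_assoc,
    Subgroup.mem_centralizer_singleton_iff]
  unfold pnt
  constructor
  · intro h
    show g * (c.out * z * c.out⁻¹) = c.out * z * c.out⁻¹ * g
    calc g * (c.out * z * c.out⁻¹) = c.out * (c.out⁻¹ * g * c.out * z) * c.out⁻¹ := by group
      _ = c.out * (z * (c.out⁻¹ * g * c.out)) * c.out⁻¹ := by rw [h]
      _ = _ := by group
  · intro h
    calc c.out⁻¹ * g * c.out * z = c.out⁻¹ * (g * (c.out * z * c.out⁻¹)) * c.out := by group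
      _ = c.out⁻¹ * ((c.out * z * c.out⁻¹) * g) * c.out := by rw [h.eq]
      _ = _ := by group

theorem pnt_one : pnt ((1 : G) : G ⧸ (Subgroup.centralizer ({z} : Set G))) = z := by
  obtain ⟨k, hk⟩ := QuotientGroup.mk_out_eq_mul (Subgroup.centralizer ({z} : Set G)) 1
  rw [pnt, hk, one_mul, Subgroup.mem_centralizer_singleton_iff.1 k.2, mul_inv_cancel_right]

theorem pnt_injective : Injective (pnt : G ⧸ (Subgroup.centralizer ({z} : Set G)) → G) := fun c d h => by
  rw [← QuotientGroup.out_eq' c, ← QuotientGroup.out_eq' d, QuotientGroup.eq,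
    Subgroup.mem_centralizer_singleton_iff]
  calc c.out⁻¹ * d.out * z = c.out⁻¹ * pnt d * d.out := by rw [pnt]; group
    _ = c.out⁻¹ * pnt c * d.out := by rw [h]
    _ = z * (c.out⁻¹ * d.out) := by rw [pnt]; group

theorem pnt_smul (a : G) (c : G ⧸ (Subgroup.centralizer ({z} : Set G))) : pnt (a • c) = a * pnt c * a⁻¹ := by
  obtain ⟨k, hk⟩ := QuotientGroup.mk_out_eq_mul (Subgroup.centralizer ({z} : Set G)) (a * c.out)
  have e : (a • c).out = a * c.out * k := by
    rw [← hk]
    congr 1
    conv_lhs => rw [← QuotientGroup.out_eq' c]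
    rfl
  have hz : (k : G) * z * (k : G)⁻¹ = z := by
    rw [Subgroup.mem_centralizer_singleton_iff.1 k.2, mul_inv_cancel_right]
  rw [pnt, e, show a * c.out * k * z * (a * c.out * k)⁻¹ =
    a * c.out * (k * z * (k : G)⁻¹) * c.out⁻¹ * a⁻¹ by group, hz, pnt]
  group

theorem conj_mem_iff (hidx : H₀.relIndex (Subgroup.centralizer ({z} : Set G)) = 2) (hle : H₀ ≤ (Subgroup.centralizer ({z} : Set G))) {k g : G} (hk : k ∈ (Subgroup.centralizer ({z} : Set G))) :
    k⁻¹ * g * k ∈ H₀ ↔ g ∈ H₀ := by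
  haveI hn : (H₀.subgroupOf (Subgroup.centralizer ({z} : Set G))).Normal := Subgroup.normal_of_index_eq_two hidx
  constructor <;> intro h
  · have h1 := hn.conj_mem ⟨_, hle h⟩ h ⟨k, hk⟩
    have h2 : k * (k⁻¹ * g * k) * k⁻¹ ∈ H₀ := h1
    rwa [show k * (k⁻¹ * g * k) * k⁻¹ = g by group] at h2
  · have h1 := hn.conj_mem ⟨_, hle h⟩ h (⟨k, hk⟩⁻¹ : ↥(Subgroup.centralizer ({z} : Set G)))
    have h2 : k⁻¹ * g * k⁻¹⁻¹ ∈ H₀ := h1
    rwa [inv_inv] at h2

theorem out_smul (hidx : H₀.relIndex (Subgroup.centralizer ({z} : Set G)) = 2) (hle : H₀ ≤ (Subgroup.centralizer ({z} : Set G))) (a : G) (c : G ⧸ (Subgroup.centralizer ({z} : Set G))) (g : G) :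
    Out H₀ (a • c) (a * g * a⁻¹) ↔ Out H₀ c g := by
  obtain ⟨k, hk⟩ := QuotientGroup.mk_out_eq_mul (Subgroup.centralizer ({z} : Set G)) (a * c.out)
  have e : (a • c).out = a * c.out * k := by
    rw [← hk]
    congr 1
    conv_lhs => rw [← QuotientGroup.out_eq' c]
    rfl
  rw [Out, e, show (a * c.out * k)⁻¹ * (a * g * a⁻¹) * (a * c.out * k) =
    (k : G)⁻¹ * (c.out⁻¹ * g * c.out) * k by group, conj_mem_iff hidx hle k.2, Out]

theorem out_smul_comm (hidx : H₀.relIndex (Subgroup.centralizer ({z} : Set G)) = 2) (hle : H₀ ≤ (Subgroup.centralizer ({z} : Set G))) {a g : G} (h : Commute a g)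
    (c : G ⧸ (Subgroup.centralizer ({z} : Set G))) : Out H₀ (a • c) g ↔ Out H₀ c g := by
  have := out_smul hidx hle a c g
  rwa [h.eq, mul_inv_cancel_right] at this

theorem not_out_self (hz : z ∈ H₀) (c : G ⧸ (Subgroup.centralizer ({z} : Set G))) : ¬ Out H₀ c (pnt c) := fun h => h (by
  rw [pnt, show c.out⁻¹ * (c.out * z * c.out⁻¹) * c.out = z by group]; exact hz)

variable [Finite G]

/-- The transfer of an element of order dividing eight. -/
theorem transfer_parity (hidx : H₀.relIndex (Subgroup.centralizer ({z} : Set G)) = 2) (hle : H₀ ≤ (Subgroup.centralizer ({z} : Set G))) (g : G) (h8 : g ^ 8 = 1)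
    (h2 : 4 ∣ Nat.card {c : G ⧸ (Subgroup.centralizer ({z} : Set G)) // g • c ≠ c ∧ g ^ 2 • c = c ∧ Out H₀ c (g ^ 2)})
    (h4 : 8 ∣ Nat.card {c : G ⧸ (Subgroup.centralizer ({z} : Set G)) // g ^ 2 • c ≠ c ∧ g ^ 4 • c = c ∧ Out H₀ c (g ^ 4)}) :
    MonoidHom.transfer (chi H₀ hidx) g =
      (-1) ^ Nat.card {c : G ⧸ (Subgroup.centralizer ({z} : Set G)) // g • c = c ∧ Out H₀ c g} := by
  classical
  haveI : Fintype (G ⧸ (Subgroup.centralizer ({z} : Set G))) := Fintype.ofFinite _
  haveI : Fintype (Quotient (orbitRel (Subgroup.zpowers g) (G ⧸ (Subgroup.centralizer ({z} : Set G))))) := Fintype.ofFinite _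
  set per : G ⧸ (Subgroup.centralizer ({z} : Set G)) → ℕ := fun c => minimalPeriod (g • ·) c with hper
  have hiff : ∀ (c : G ⧸ (Subgroup.centralizer ({z} : Set G))) (n : ℕ), g ^ n • c = c ↔ per c ∣ n := fun c n =>
    MulAction.pow_smul_eq_iff_minimalPeriod_dvd
  have hdvd : ∀ c, per c ∣ 8 := fun c => (hiff c 8).1 (by rw [h8, one_smul])
  set val : G ⧸ (Subgroup.centralizer ({z} : Set G)) → Prop := fun c => Out H₀ c (g ^ per c) with hval
  set w : G ⧸ (Subgroup.centralizer ({z} : Set G)) → ℕ := fun c => if val c then 8 / per c else 0 with hw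
  -- constancy along orbits
  have horb : ∀ (c : G ⧸ (Subgroup.centralizer ({z} : Set G))) (q : Quotient (orbitRel (Subgroup.zpowers g) (G ⧸ (Subgroup.centralizer ({z} : Set G))))),
      Quotient.mk'' c = q → per c = per q.out ∧ (val c ↔ val q.out) := by
    intro c q hq
    obtain ⟨⟨a, ha⟩, hac⟩ := Quotient.exact' (hq.trans q.out_eq'.symm)
    have hac' : a • q.out = c := hac
    have hcomm : ∀ n : ℕ, Commute a (g ^ n) := fun n => by
      obtain ⟨i, rfl⟩ := Subgroup.mem_zpowers_iff.1 ha
      exact ((Commute.refl g).zpow_left i).pow_right n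
    have e : ∀ n : ℕ, g ^ n • c = c ↔ g ^ n • q.out = q.out := fun n => by
      rw [← hac', ← mul_smul, ← (hcomm n).eq, mul_smul, smul_left_cancel_iff]
    have hp : per c = per q.out := by
      refine Nat.dvd_antisymm ?_ ?_
      · rw [← hiff, e, hiff]
      · rw [← hiff, ← e, hiff]
    refine ⟨hp, ?_⟩
    show Out H₀ c (g ^ per c) ↔ Out H₀ q.out (g ^ per q.out)
    rw [hp, ← hac']
    exact out_smul_comm hidx hle (hcomm _) _
  -- the transfer counts the orbits with a value
  have htr : MonoidHom.transfer (chi H₀ hidx) g =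
      (-1) ^ (Finset.univ.filter
        fun q : Quotient (orbitRel (Subgroup.zpowers g) (G ⧸ (Subgroup.centralizer ({z} : Set G)))) => val q.out).card := by
    rw [MonoidHom.transfer_eq_prod_quotient_orbitRel_zpowers_quot, ← Finset.prod_const,
      Finset.prod_filter]
    refine Finset.prod_congr rfl fun q _ => ?_
    show (if (q.out.out⁻¹ * g ^ per q.out * q.out.out : G) ∈ H₀ then (1 : ℤˣ) else -1) = _
    by_cases hv : q.out.out⁻¹ * g ^ per q.out * q.out.out ∈ H₀
    · rw [if_pos hv, if_neg (show ¬ val q.out from fun h => h hv)]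
    · rw [if_neg hv, if_pos (show val q.out from hv)]
  -- eight times that number is the total weight
  have hsum : ∑ c, w c = 8 * (Finset.univ.filter
      fun q : Quotient (orbitRel (Subgroup.zpowers g) (G ⧸ (Subgroup.centralizer ({z} : Set G)))) => val q.out).card := by
    rw [← Finset.sum_fiberwise Finset.univ
      (fun c : G ⧸ (Subgroup.centralizer ({z} : Set G)) => (Quotient.mk'' c : Quotient (orbitRel (Subgroup.zpowers g) (G ⧸ (Subgroup.centralizer ({z} : Set G)))))) w,
      Finset.card_filter, Finset.mul_sum]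
    refine Finset.sum_congr rfl fun q _ => ?_
    have hn : (Finset.univ.filter fun c : G ⧸ (Subgroup.centralizer ({z} : Set G)) => (Quotient.mk'' c :
        Quotient (orbitRel (Subgroup.zpowers g) (G ⧸ (Subgroup.centralizer ({z} : Set G))))) = q).card = per q.out := by
      rw [hper]
      show _ = minimalPeriod (g • ·) q.out
      haveI : Fintype (MulAction.orbit (Subgroup.zpowers g) q.out) := Fintype.ofFinite _
      rw [MulAction.minimalPeriod_eq_card, ← Fintype.card_subtype]
      refine Fintype.card_congr (Equiv.subtypeEquivRight fun c => ?_)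
      constructor
      · intro h
        exact Quotient.exact' (h.trans q.out_eq'.symm)
      · intro h
        exact (Quotient.sound' h).trans q.out_eq'
    rw [Finset.sum_congr rfl (g := fun _ => w q.out) fun c hc => by
      obtain ⟨hp, hv⟩ := horb c q (Finset.mem_filter.1 hc).2
      simp only [hw, hp, hv]]
    rw [Finset.sum_const, hn, smul_eq_mul, hw]
    show per q.out * (if val q.out then 8 / per q.out else 0) = 8 * if val q.out then 1 else 0
    split_ifs
    · rw [mul_one, Nat.mul_div_cancel' (hdvd _)]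
    · simp
  -- the weight by periods
  set S1 := {c : G ⧸ (Subgroup.centralizer ({z} : Set G)) // g • c = c ∧ Out H₀ c g}
  set S2 := {c : G ⧸ (Subgroup.centralizer ({z} : Set G)) // g • c ≠ c ∧ g ^ 2 • c = c ∧ Out H₀ c (g ^ 2)}
  set S4 := {c : G ⧸ (Subgroup.centralizer ({z} : Set G)) // g ^ 2 • c ≠ c ∧ g ^ 4 • c = c ∧ Out H₀ c (g ^ 4)}
  have hw' : ∀ c, w c = (if g • c = c ∧ Out H₀ c g then 8 else 0) +
      (if g • c ≠ c ∧ g ^ 2 • c = c ∧ Out H₀ c (g ^ 2) then 4 else 0) +
      (if g ^ 2 • c ≠ c ∧ g ^ 4 • c = c ∧ Out H₀ c (g ^ 4) then 2 else 0) := by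
    intro c
    have h1 := hiff c 1
    rw [pow_one] at h1
    simp only [hw, hval, ne_eq, h1, hiff c 2, hiff c 4]
    obtain ⟨i, hi, he⟩ := (Nat.dvd_prime_pow Nat.prime_two).1 (show per c ∣ 2 ^ 3 from hdvd c)
    have h0 : ¬ Out H₀ c (g ^ 8) := fun h => h (by
      rw [h8, mul_one, inv_mul_cancel]; exact H₀.one_mem)
    interval_cases i <;> norm_num [he, h0]
  have htot : ∑ c, w c = 8 * Nat.card S1 + 4 * Nat.card S2 + 2 * Nat.card S4 := by
    simp only [hw', Finset.sum_add_distrib, ← Finset.sum_filter, Finset.sum_const, smul_eq_mul]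
    rw [Nat.card_eq_fintype_card, Nat.card_eq_fintype_card, Nat.card_eq_fintype_card,
      Fintype.card_subtype, Fintype.card_subtype, Fintype.card_subtype]
    ring
  rw [htr, Int.units_pow_eq_pow_mod_two, Int.units_pow_eq_pow_mod_two _ (Nat.card S1)]
  congr 1
  obtain ⟨a, ha⟩ := h2
  obtain ⟨b, hb⟩ := h4
  rw [hsum] at htot
  omega

/-- Orbits of a group of symmetries of a set of cosets. -/
theorem dvd_card (Q : Subgroup G) (P : G ⧸ (Subgroup.centralizer ({z} : Set G)) → Prop) (n : ℕ)
    (hP : ∀ q ∈ Q, ∀ c, P c → P (q • c))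
    (hn : ∀ c, P c → n ∣ Nat.card (MulAction.orbit Q c)) :
    n ∣ Nat.card {c : G ⧸ (Subgroup.centralizer ({z} : Set G)) // P c} := by
  classical
  haveI : Fintype (G ⧸ (Subgroup.centralizer ({z} : Set G))) := Fintype.ofFinite _
  haveI : Fintype (Quotient (orbitRel Q (G ⧸ (Subgroup.centralizer ({z} : Set G))))) := Fintype.ofFinite _
  rw [Nat.card_eq_fintype_card, Fintype.card_subtype,
    Finset.card_eq_sum_card_fiberwise (f := fun c => (Quotient.mk'' c :
      Quotient (orbitRel Q (G ⧸ (Subgroup.centralizer ({z} : Set G)))))) (t := Finset.univ) (fun c _ => Finset.mem_univ _)]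
  refine Finset.dvd_sum fun o _ => ?_
  by_cases hPo : P o.out
  · haveI : Fintype (MulAction.orbit Q o.out) := Fintype.ofFinite _
    have h1 := hn o.out hPo
    rw [Nat.card_eq_fintype_card, ← Set.toFinset_card] at h1
    refine h1.trans (dvd_of_eq (congrArg Finset.card ?_))
    ext c
    simp only [Finset.mem_filter, Finset.mem_univ, true_and, Set.mem_toFinset]
    constructor
    · rintro ⟨⟨q, hq⟩, rfl⟩
      exact ⟨hP q hq _ hPo, (Quotient.sound' (s₁ := orbitRel Q _)
        (show q • o.out ∈ MulAction.orbit Q o.out from ⟨⟨q, hq⟩, rfl⟩)).trans o.out_eq'⟩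
    · rintro ⟨-, h⟩
      exact Quotient.exact' (h.trans o.out_eq'.symm)
  · rw [Finset.filter_eq_empty_iff.2, Finset.card_empty]
    · exact dvd_zero _
    · intro c hc h
      obtain ⟨⟨q, hq⟩, hqc⟩ := Quotient.exact' (o.out_eq'.trans h.symm)
      exact hPo (hqc ▸ hP q hq c (Finset.mem_filter.1 hc).2)

end H64.U6E
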