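import Cfsg.Agent.H38.U6C.Fix8
import Cfsg.Agent.H50.U6C.Model

/-!
Facts on the model with a fixed plane (helper64).
-/

set_option autoImplicit false
set_option maxRecDepth 100000

namespace H64.U6E

open H38.U6C H50.U6C

/-- The element of order five: free on the span of `4, 8, 16, 32`, fixing its complement. -/
def gam : Equiv.Perm V := refl8 12 * refl8 16 * (refl8 20 * refl8 32)

/-- An element fixing `3` that moves the span of `4, 8, 16, 32`. -/
def mov : Equiv.Perm V := refl8 7 * refl8 16

theorem gam_mem : gam ∈ oGroup :=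
  mul_mem (Subgroup.subset_closure ⟨12, 16, by decide, by decide, rfl⟩)
    (Subgroup.subset_closure ⟨20, 32, by decide, by decide, rfl⟩)

theorem mov_mem : mov ∈ oGroup :=
  Subgroup.subset_closure ⟨7, 16, by decide, by decide, rfl⟩

theorem gam_pow_five : gam ^ 5 = 1 := by
  have h : ∀ v, gam (gam (gam (gam (gam v)))) = v := by decide +kernel
  exact Equiv.ext fun v => h v

/-- The span of `4, 8, 16, 32`. -/
def InE (v : V) : Prop := v.val < 64 ∧ v.val % 4 = 0

instance (v : V) : Decidable (InE v) := inferInstanceAs (Decidable (_ ∧ _))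

theorem vadd_lt {a b : V} {n : ℕ} (ha : a.val < 2 ^ n) (hb : b.val < 2 ^ n) :
    (vadd a b).val < 2 ^ n := by
  rw [vadd_val]; exact Nat.xor_lt_two_pow ha hb

theorem exists_bit : ∀ v : V, v ≠ 0 → ∃ i : Fin 8,
    (vadd v ⟨2 ^ i.val % 256, Nat.mod_lt _ (by norm_num)⟩).val < v.val := by decide +kernel

theorem vadd_cancel (a b : V) : vadd (vadd a b) b = a := by
  rw [vadd_assoc, vadd_self, vadd_zero']

/-- Additive maps agreeing on the basis are equal. -/
theorem ext_add {f g : V → V} (hf : ∀ a b, f (vadd a b) = vadd (f a) (f b))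
    (hg : ∀ a b, g (vadd a b) = vadd (g a) (g b))
    (h : ∀ i : Fin 8, f ⟨2 ^ i.val % 256, Nat.mod_lt _ (by norm_num)⟩ =
      g ⟨2 ^ i.val % 256, Nat.mod_lt _ (by norm_num)⟩) (v : V) : f v = g v := by
  induction hn : v.val using Nat.strong_induction_on generalizing v with
  | _ n IH =>
    subst hn
    by_cases hv : v = 0
    · have hf0 := hf 0 0
      have hg0 := hg 0 0
      rw [vadd_self, vadd_self] at hf0 hg0
      rw [hv, hf0, hg0]
    · obtain ⟨i, hi⟩ := exists_bit v hv
      rw [← vadd_cancel v ⟨2 ^ i.val % 256, Nat.mod_lt _ (by norm_num)⟩, hf, hg, h i, IH _ hi _ rfl]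

theorem refFun_top : ∀ a : V, refFun a 64 = 64 ∧ refFun a 128 = 128 := by decide +kernel

theorem refFun_low {a v : V} (hv : v.val < 64) : (refFun a v).val < 64 := by
  unfold refFun
  split_ifs with h
  · exact vadd_lt (n := 6) hv h.1.1
  · exact hv

/-- The group fixes the plane and preserves its complement. -/
theorem oGroup_top {g : Equiv.Perm V} (hg : g ∈ oGroup) :
    g 64 = 64 ∧ g 128 = 128 ∧ ∀ v : V, v.val < 64 → (g v).val < 64 := by
  induction hg using Subgroup.closure_induction with
  | mem x hx =>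
    obtain ⟨a, b, -, -, rfl⟩ := hx
    refine ⟨?_, ?_, fun v hv => refFun_low (refFun_low hv)⟩
    · show refFun a (refFun b 64) = 64
      rw [(refFun_top b).1, (refFun_top a).1]
    · show refFun a (refFun b 128) = 128
      rw [(refFun_top b).2, (refFun_top a).2]
  | one => exact ⟨rfl, rfl, fun v hv => hv⟩
  | mul x y _ _ hx hy =>
    refine ⟨?_, ?_, fun v hv => hx.2.2 _ (hy.2.2 v hv)⟩
    · rw [Equiv.Perm.mul_apply, hy.1, hx.1]
    · rw [Equiv.Perm.mul_apply, hy.2.1, hx.2.1]
  | inv x _ hx =>
    refine ⟨?_, ?_, fun v hv => ?_⟩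
    · conv_lhs => rw [← hx.1]
      exact x.symm_apply_apply _
    · conv_lhs => rw [← hx.2.1]
      exact x.symm_apply_apply _
    · -- the inverse is a power
      have h : ∀ n : ℕ, ((x ^ n) v).val < 64 := by
        intro n
        induction n with
        | zero => simpa using hv
        | succ n ih => rw [pow_succ', Equiv.Perm.mul_apply]; exact hx.2.2 _ ih
      have hinv : x⁻¹ = x ^ (orderOf x - 1) := inv_eq_of_mul_eq_one_right (by
        rw [← pow_succ', Nat.sub_add_cancel (orderOf_pos x), pow_orderOf_eq_one])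
      rw [hinv]; exact h _

theorem refFun_three : ∀ v : V, refFun 3 v =
    if (bit8 v 0 != bit8 v 1) = true then vadd v 3 else v := by decide +kernel

theorem refFun_three_add (a b : V) :
    refFun 3 (vadd a b) = vadd (refFun 3 a) (refFun 3 b) := by
  have hb : ∀ i, bit8 (vadd a b) i = (bit8 a i != bit8 b i) := fun i => by
    simp only [bit8, vadd_val, Nat.testBit_xor]
  have h3 : ∀ c : V, vadd 3 (vadd 3 c) = c := fun c => by
    rw [← vadd_assoc, vadd_self, vadd_comm, vadd_zero']
  rw [refFun_three, refFun_three a, refFun_three b, hb 0, hb 1]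
  cases bit8 a 0 <;> cases bit8 a 1 <;> cases bit8 b 0 <;> cases bit8 b 1 <;>
    simp [vadd_assoc, vadd_comm b, h3]

/-- The only maps fixing the plane, `3` and the span of `4, 8, 16, 32`. -/
theorem fix_cases (m : Bool) {f : V → V} (hf : ∀ a b, f (vadd a b) = vadd (f a) (f b))
    (hq : ∀ a, q8 m (f a) = q8 m a) (h64 : f 64 = 64) (h128 : f 128 = 128)
    (hlow : (f 1).val < 64) (h3 : f 3 = 3) (hE : ∀ v, InE v → f v = v) :
    (∀ v, f v = v) ∨ ∀ v, f v = refFun 3 v := by
  have key : ∀ (m : Bool) (x : Fin 64),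
      q8 m ⟨x.val % 256, Nat.mod_lt _ (by norm_num)⟩ = q8 m 1 →
      (∀ b ∈ ([3, 4, 8, 16, 32] : List V),
        pol8 m ⟨x.val % 256, Nat.mod_lt _ (by norm_num)⟩ b = pol8 m 1 b) →
      x.val = 1 ∨ x.val = 2 := by decide +kernel
  have hp : ∀ a b, pol8 m (f a) (f b) = pol8 m a b := fun a b => by
    unfold pol8; rw [← hf, hq, hq, hq]
  have e : (⟨(f 1).val % 256, Nat.mod_lt _ (by norm_num)⟩ : V) = f 1 :=
    Fin.ext (Nat.mod_eq_of_lt (f 1).isLt)
  have h1 := key m ⟨(f 1).val, hlow⟩ (by
    show q8 m ⟨(f 1).val % 256, _⟩ = _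
    rw [e, hq]) (fun b hb => by
    show pol8 m ⟨(f 1).val % 256, _⟩ b = _
    rw [e]
    have hfb : f b = b := by
      simp only [List.mem_cons, List.not_mem_nil, or_false] at hb
      rcases hb with rfl | rfl | rfl | rfl | rfl
      · exact h3
      all_goals exact hE _ (by decide)
    conv_lhs => rw [← hfb]
    exact hp 1 b)
  have h2 : f 2 = vadd (f 1) 3 := by
    rw [show (2 : V) = vadd 1 3 by decide, hf, h3]
  rcases h1 with h1 | h1
  · left
    have h1' : f 1 = 1 := Fin.ext h1
    refine fun v => ext_add (g := fun v => v) hf (fun a b => rfl) (fun i => ?_) v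
    fin_cases i
    · exact h1'
    · show f 2 = 2
      rw [h2, h1']; decide
    · exact hE 4 (by decide)
    · exact hE 8 (by decide)
    · exact hE 16 (by decide)
    · exact hE 32 (by decide)
    · exact h64
    · exact h128
  · right
    have h1' : f 1 = 2 := Fin.ext h1
    have hr := refFun_three_add
    refine fun v => ext_add hf hr (fun i => ?_) v
    fin_cases i
    · show f 1 = refFun 3 1
      rw [h1']; decide
    · show f 2 = refFun 3 2
      rw [h2, h1']; decide
    · show f 4 = refFun 3 4
      rw [hE 4 (by decide)]; decide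
    · show f 8 = refFun 3 8
      rw [hE 8 (by decide)]; decide
    · show f 16 = refFun 3 16
      rw [hE 16 (by decide)]; decide
    · show f 32 = refFun 3 32
      rw [hE 32 (by decide)]; decide
    · show f 64 = refFun 3 64
      rw [h64]; decide
    · show f 128 = refFun 3 128
      rw [h128]; decide

theorem gam_free : ∀ e : V, InE e → gam e = e → e = 0 := by decide +kernel

theorem gam_onto : ∀ e : V, InE e → ∃ x, InE x ∧ vadd (gam x) x = e := by decide +kernel

end H64.U6E
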