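import Cfsg.Agent.H35.U6E.Basic
import Cfsg.Agent.H64.U6E.Facts

/-!
Finite facts used for the transfer in the case with a fixed plane (helper64).
-/

set_option autoImplicit false
set_option maxRecDepth 100000

namespace H64.U6E

open H38.U6C H50.U6C H35.U6E

theorem gam_eq : gam = gam8 := by
  simp only [gam, gam8, mul_assoc]

theorem pol8_comm (m : Bool) (a b : V) : pol8 m a b = pol8 m b a := by
  unfold pol8
  rw [vadd_comm b a]; cases q8 m a <;> cases q8 m b <;> rfl

theorem out_invol : ∀ t v, outP t (outP t v) = v := by decide +kernel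

theorem out_fixE : ∀ t v, InE v → outP t v = v := by decide +kernel

theorem out_one : ∀ t, outP t 1 = 2 ∧ outP t 3 = 3 := by decide +kernel

theorem out_low : ∀ t (x : V), x.val < 64 →
    vadd (outP t x) x = 0 ∨ vadd (outP t x) x = 3 := by decide +kernel

theorem out_plv : ∀ t, outP t (plv t) = plv t := by decide +kernel

theorem pol_misc : ∀ m : Bool, pol8 m 2 1 = true ∧ q8 m 16 = true ∧ q8 m 32 = true ∧
    q8 m 48 = true := by decide +kernel

theorem perp_E : ∀ m : Bool, ∀ v : V, (∀ e ∈ ([4, 8, 16, 32] : List V), pol8 m v e = false) →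
    v.val % 64 < 4 := by decide +kernel

theorem pol_F_E : ∀ m : Bool, ∀ v e : V, v.val % 64 < 4 → InE e → pol8 m v e = false := by
  decide +kernel

theorem pol_plane_three : ∀ m : Bool, ∀ v : V, v.val % 64 = 0 → pol8 m v 3 = false := by
  decide +kernel

theorem sq_shift : ∀ m t, (t = 0 ∨ q8 m (plv t) = true ∧ (m = true ∨ t = 1)) →
    ∀ v : V, v.val % 64 < 4 → outP t v = v →
    (∀ u : V, u.val % 64 < 4 → outP t u = u → pol8 m v u = false) →
    ∃ x : V, x.val % 64 < 4 ∧ vadd (outP t x) x = v := by decide +kernel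

theorem plane_dual : ∀ m : Bool, ∀ e1 e2 : Bool,
    ∃ a : V, a.val % 64 = 0 ∧ pol8 m a 64 = e1 ∧ pol8 m a 128 = e2 := by decide +kernel

theorem plane_step : ∀ m t, (t = 0 ∨ q8 m (plv t) = true ∧ (m = true ∨ t = 1)) → t ≠ 0 →
    ∃ a : V, a.val % 64 = 0 ∧ vadd (outP t a) a = plv t := by decide +kernel

theorem fixed_zero : ∀ v : V, v.val % 64 < 4 → outP 0 v = v →
    v.val % 64 = 0 ∨ ∃ l : V, l.val % 64 = 0 ∧ vadd 3 l = v := by decide +kernel

theorem plane_split : ∀ v : V, v.val % 64 = 0 →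
    v = 0 ∨ v = 64 ∨ v = 128 ∨ v = vadd 64 128 := by decide +kernel

theorem plane_perp : ∀ m : Bool, ∀ v : V, v.val % 64 = 0 → pol8 m v 64 = false →
    pol8 m v 128 = false → v = 0 := by decide +kernel

theorem fixed_ne : ∀ t : Fin 4, t ≠ 0 → ∀ v : V, v.val % 64 < 4 → outP t v = v →
    v = 0 ∨ v = 3 ∨ v = plv t ∨ v = vadd 3 (plv t) := by decide +kernel

theorem plane_orth : ∀ m t, (t = 0 ∨ q8 m (plv t) = true ∧ (m = true ∨ t = 1)) → t ≠ 0 →
    ∀ v : V, pol8 m v (plv t) = false →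
    vadd (outP t v) v = if pol8 m v 3 then 3 else 0 := by decide +kernel

theorem plv_low : ∀ m t, ∀ u : V, u.val < 64 → pol8 m u (plv t) = false := by decide +kernel

theorem plv_self : ∀ m t, pol8 m (plv t) (plv t) = false ∧ plv t ≠ (3 : V) ∧
    vadd 3 (plv t) ≠ (0 : V) := by decide +kernel

theorem three_facts : ∀ m : Bool, ∀ t, q8 m 3 = true ∧ pol8 m 3 (vadd 3 (plv t)) = false ∧
    pol8 m (plv t) (vadd 3 (plv t)) = false := by decide +kernel

theorem perp_plv : ∀ m t, (t = 0 ∨ q8 m (plv t) = true ∧ (m = true ∨ t = 1)) → t ≠ 0 →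
    ∀ v : V, (∀ u ∈ ([1, 2, 4, 8, 16, 32, plv t] : List V), pol8 m v u = false) →
    q8 m v = false → v = 0 := by decide +kernel

set_option synthInstance.maxSize 1024 in
set_option synthInstance.maxHeartbeats 80000 in
theorem perp_both : ∀ m t, (t = 0 ∨ q8 m (plv t) = true ∧ (m = true ∨ t = 1)) → t ≠ 0 →
    ∀ v : V, (∀ u ∈ ([3, 4, 8, 16, 32, plv t] : List V), pol8 m v u = false) →
    q8 m v = false → v = 0 ∨ v = vadd 3 (plv t) := by decide +kernel

theorem gam_fix : ∀ t, gam (vadd 3 (plv t)) = vadd 3 (plv t) := by decide +kernel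

theorem mov_vals : ∀ t, mov (vadd 3 (plv t)) = vadd 3 (plv t) ∧ mov 8 = vadd 3 12 := by
  decide +kernel

theorem exists_flip : ∀ m t, ∃ v : V, pol8 m v (vadd 3 (plv t)) = true := by decide +kernel

/-- Five vectors whose pairwise sums are all non-singular. -/
def five : Fin 5 → V := ![0, 16, 32, 52, 56]

theorem five_sing : ∀ m : Bool, ∀ i k : Fin 5, i ≠ k → q8 m (vadd (five i) (five k)) = true := by
  decide +kernel

end H64.U6E
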