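import Cfsg.Agent.H64.U6E.Count

/-!
The subgroup of index two from the transfer (helper64).
-/

set_option autoImplicit false
set_option maxRecDepth 100000

namespace H64.U6E

open H38.U6C H35.U6E

universe u

/-- The number of cosets moved by the outer element and fixed by its square, where the transfer
takes the value `-1`, is divisible by four if the plane is moved. -/
def SquareStmt : Prop :=
  ∀ {G : Type u} [Group G] [Finite G] {z : G} {J H₀ : Subgroup G} {m : Bool} {t : Fin 4}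
    {φ : G → V} {ρ : ↥(Subgroup.centralizer ({z} : Set G)) →* Equiv.Perm V} {g : G},
    FixCtx z J H₀ m t φ ρ → refl8 3 ∉ oGroup → Elt z J H₀ m t φ ρ g → t ≠ 0 →
    4 ∣ Nat.card {c : G ⧸ (Subgroup.centralizer ({z} : Set G)) //
      g • c ≠ c ∧ g ^ 2 • c = c ∧ Out H₀ c (g ^ 2)}

set_option maxHeartbeats 400000 in
theorem indexTwo_of_square (hS : SquareStmt.{u}) {G : Type u} [Group G] [Finite G] {z : G}
    {J H₀ : Subgroup G} {m : Bool} {t : Fin 4} {φ : G → V}
    {ρ : ↥(Subgroup.centralizer ({z} : Set G)) →* Equiv.Perm V}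
    (hc : FixCtx z J H₀ m t φ ρ) (hr : refl8 3 ∉ oGroup)
    (hperf : ∀ f : ↥H₀ →* ℤˣ, (∀ j : ↥H₀, (j : G) ∈ J → f j = 1) → f = 1) :
    ∃ G₀ : Subgroup G, G₀.index = 2 ∧ G₀ ⊓ Subgroup.centralizer ({z} : Set G) = H₀ := by
  classical
  have hidx := relIndex_two hc
  obtain ⟨g, E⟩ := exists_elt hc
  obtain ⟨T, hT⟩ : ∃ T : G →* ℤˣ, T = MonoidHom.transfer (chi H₀ hidx) := ⟨_, rfl⟩
  have hg : T g = -1 := by
    rw [hT, transfer_parity hidx hc.le_cent g E.pow8 ?_ (dvd_four_power hc E)]
    · exact (odd_fixed hc hr E).neg_one_pow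
    · by_cases ht : t = 0
      · exact dvd_square_zero hc E ht
      · exact hS hc hr E ht
  have hH : ∀ h ∈ H₀, T h = 1 := fun h hh => by
    have hJ : ∀ j : ↥H₀, (j : G) ∈ J → (T.comp H₀.subtype) j = 1 := fun j hj => by
      rw [MonoidHom.comp_apply, Subgroup.coe_subtype, hT]
      exact transfer_J hc hr hidx (j : G) hj
    have h1 := DFunLike.congr_fun (hperf (T.comp H₀.subtype) hJ) ⟨h, hh⟩
    rwa [MonoidHom.comp_apply, Subgroup.coe_subtype, MonoidHom.one_apply] at h1
  refine ⟨T.ker, ?_, le_antisymm ?_ (le_inf hH hc.le_cent)⟩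
  · have hr : T.range = ⊤ := eq_top_iff.2 fun u _ => by
      rcases Int.units_eq_one_or u with rfl | rfl
      · exact one_mem _
      · exact ⟨g, hg⟩
    rw [Subgroup.index_ker, hr, Subgroup.card_top, Nat.card_eq_fintype_card,
      Fintype.card_units_int]
  · rintro x ⟨hx1, hx2⟩
    by_contra hx
    have hmem : g⁻¹ * x ∈ H₀ := by
      have h := Subgroup.mul_mem_iff_of_index_two
        (H := H₀.subgroupOf (Subgroup.centralizer ({z} : Set G))) hidx
        (a := ⟨g, E.mem⟩⁻¹) (b := ⟨x, hx2⟩)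
      refine h.2 ⟨fun ha => absurd ?_ E.not_mem, fun hb => absurd hb hx⟩
      exact inv_mem_iff.1 ha
    have := hH _ hmem
    rw [map_mul, map_inv, hg, MonoidHom.mem_ker.1 hx1] at this
    exact absurd this (by decide)

end H64.U6E
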