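import Cfsg.Agent.H64.U6E.Elems
import Cfsg.Agent.H35.U6E.Kill

/-!
The cosets fixed by the outer element and by its fourth power (helper64).
-/

set_option autoImplicit false
set_option maxRecDepth 100000
set_option linter.unusedSectionVars false

namespace H64.U6E

open H38.U6C H50.U6C H35.U6E MulAction

universe u

variable {G : Type u} [Group G] {z : G} {J H₀ : Subgroup G} {m : Bool} {t : Fin 4} {φ : G → V}
  {ρ : ↥(Subgroup.centralizer ({z} : Set G)) →* Equiv.Perm V} {g : G}

/-- An inner element centralising the preimage of `E` and commuting with the outer action. -/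
theorem fix_inner (hc : FixCtx z J H₀ m t φ ρ) (hr : refl8 3 ∉ oGroup) {x : G} (hx : x ∈ H₀)
    (hE : ∀ j ∈ J, InE (φ j) → Commute x j)
    (h3 : ρ ⟨x, hc.le_cent hx⟩ * outP t = outP t * ρ ⟨x, hc.le_cent hx⟩) : x ∈ J := by
  set f := ρ ⟨x, hc.le_cent hx⟩ with hf
  have ho : f ∈ oGroup := inner_range hc hx
  obtain ⟨h64, h128, hlow⟩ := oGroup_top ho
  have hadd : ∀ a b, f (vadd a b) = vadd (f a) (f b) := ρ_add hc _
  have h0 : f 0 = 0 := by
    have := hadd 0 0
    rwa [H50.U6C.vadd_self, H50.U6C.vadd_self] at this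
  have hf3 : f 3 = 3 := by
    have e2 : f 2 = outP t (f 1) := by
      rw [← Equiv.Perm.mul_apply, ← h3, Equiv.Perm.mul_apply, (out_one t).1]
    have e3 : f 3 = vadd (outP t (f 1)) (f 1) := by
      rw [show (3 : V) = vadd 2 1 by decide, hadd, e2]
    rcases out_low t (f 1) (hlow 1 (by decide)) with h | h
    · exact absurd (f.injective ((e3.trans h).trans h0.symm)) (by decide)
    · exact e3.trans h
  have hEfix : ∀ v, InE v → f v = v := fun v hv => by
    obtain ⟨j, hj, rfl⟩ := hc.φ_surj v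
    exact ρ_fix_of_comm hc _ hj (hE j hj hv)
  rcases fix_cases m hadd (ρ_q hc _) h64 h128 (hlow 1 (by decide)) hf3 hEfix with h | h
  · exact (hc.ρ_ker ⟨x, _⟩).1 (Equiv.ext h)
  · exact absurd (show refl8 3 ∈ oGroup from (Equiv.ext h : f = refl8 3) ▸ ho) hr

theorem plv_ne_zero (hc : FixCtx z J H₀ m t φ ρ) (ht : t ≠ 0) : q8 m (plv t) = true :=
  (hc.plane.resolve_left ht).1

/-- Only the base coset is fixed by the outer element and its centraliser in the core. -/
theorem fixed_base (hc : FixCtx z J H₀ m t φ ρ) (hr : refl8 3 ∉ oGroup)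
    (E : Elt z J H₀ m t φ ρ g) {c : G ⧸ (Subgroup.centralizer ({z} : Set G))}
    (hcne : c ≠ ((1 : G) : G ⧸ (Subgroup.centralizer ({z} : Set G)))) (hgc : g • c = c)
    (hOut : Out H₀ c g) : ∃ q ∈ J ⊓ Subgroup.centralizer ({g} : Set G), q • c ≠ c := by
  by_contra hall
  push_neg at hall
  have hidx := relIndex_two hc
  set y := pnt c with hy
  have hgy : Commute g y := (smul_eq_iff g c).1 hgc
  have hQ : ∀ q ∈ J, Commute g q → Commute q y := fun q hq hgq =>
    (smul_eq_iff q c).1 (hall q ⟨hq, Subgroup.mem_centralizer_singleton_iff.2 hgq.eq.symm⟩)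
  have hyC : y ∈ Subgroup.centralizer ({z} : Set G) :=
    Subgroup.mem_centralizer_singleton_iff.2 (hQ z hc.z_mem (z_comm hc E.mem)).eq.symm
  have hy1 : y * y = 1 := pnt_sq hc.sq c
  have hyne : y ≠ 1 := pnt_ne_one hc.ne_one c
  have hyz : y ≠ z := fun h => hcne (eq_base_of_pnt h)
  -- an element of the core with the symmetries of `y`
  have core : ∀ x ∈ H₀, Commute x g →
      (∀ q ∈ J, Commute g q → Commute x q) →
      x ∈ J ∧ (x = 1 ∨ x = z ∨ t ≠ 0 ∧ φ x = plv t) := by
    intro x hx hxg hxq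
    have hxJ : x ∈ J := by
      refine fix_inner hc hr hx (fun j hj hE => hxq j hj (E.comm_E j hj hE)) ?_
      rw [← E.rho, ← map_mul, ← map_mul]
      exact congrArg ρ (Subtype.ext hxg.eq)
    refine ⟨hxJ, ?_⟩
    have hv1 : (φ x).val % 64 < 4 := perp_E m _ fun e he => by
      obtain ⟨j, hj, rfl⟩ := hc.φ_surj e
      refine (comm_iff hc hxJ hj).1 (hxq j hj (E.comm_E j hj ?_))
      simp only [List.mem_cons, List.not_mem_nil, or_false] at he
      rcases he with h | h | h | h <;> rw [h] <;> decide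
    have hv2 : outP t (φ x) = φ x := by
      rw [← E.rho]; exact ρ_fix_of_comm hc E.mem hxJ hxg.symm
    obtain ⟨r, hr', hr3⟩ := hc.φ_surj 3
    have hrn : ¬ Commute g r := fun h => hc.ne_one (by
      have e := E.flip r hr' hr3
      rw [h.eq, mul_inv_cancel_right] at e
      exact mul_eq_left.1 e.symm)
    by_cases ht : t = 0
    · subst ht
      obtain ⟨-, hpl⟩ := E.zero rfl
      rcases fixed_zero _ hv1 hv2 with h | ⟨l, hl, hle⟩
      · have hp : ∀ k : V, k.val % 64 = 0 → pol8 m (φ x) k = false := fun k hk => by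
          obtain ⟨j, hj, rfl⟩ := hc.φ_surj k
          exact (comm_iff hc hxJ hj).1 (hxq j hj (hpl j hj hk))
        rcases (hc.φ_ker x hxJ).1 (plane_perp m _ h (hp 64 (by decide)) (hp 128 (by decide)))
          with h | h
        · exact Or.inl h
        · exact Or.inr (Or.inl h)
      · obtain ⟨b, hb, rfl⟩ := hc.φ_surj l
        have := comm_congr hc E.mem hxJ (J.mul_mem hr' hb)
          (by rw [hc.φ_mul _ hr' _ hb, hr3, hle]) hxg.symm
        have h2 := this.mul_right (hpl b hb hl).inv_right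
        rw [mul_inv_cancel_right] at h2
        exact absurd h2 hrn
    · obtain ⟨hw, hwφ⟩ := E.succ ht
      rcases fixed_ne t ht _ hv1 hv2 with h | h | h | h
      · rcases (hc.φ_ker x hxJ).1 h with h | h
        · exact Or.inl h
        · exact Or.inr (Or.inl h)
      · exact absurd (comm_congr hc E.mem hxJ hr' (h.trans hr3.symm) hxg.symm) hrn
      · exact Or.inr (Or.inr ⟨ht, h⟩)
      · have := comm_congr hc E.mem hxJ (J.mul_mem hr' hw)
          (by rw [hc.φ_mul _ hr' _ hw, hr3, hwφ, h]) hxg.symm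
        have h2 := this.mul_right ((Commute.refl g).mul_right (Commute.refl g)).inv_right
        rw [mul_inv_cancel_right] at h2
        exact absurd h2 hrn
  by_cases hy0 : y ∈ H₀
  · obtain ⟨hyJ, h | h | ⟨ht, h⟩⟩ := core y hy0 hgy.symm fun q hq hgq => (hQ q hq hgq).symm
    · exact hyne h
    · exact hyz h
    · have := q_false hc hyJ hy1
      rw [h, plv_ne_zero hc ht] at this
      exact Bool.noConfusion this
  · have hx : g⁻¹ * y ∈ H₀ := by
      have h := Subgroup.mul_mem_iff_of_index_two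
        (H := H₀.subgroupOf (Subgroup.centralizer ({z} : Set G))) hidx
        (a := ⟨g, E.mem⟩⁻¹) (b := ⟨y, hyC⟩)
      refine h.2 ⟨fun ha => absurd ?_ E.not_mem, fun hb => absurd hb hy0⟩
      exact inv_mem_iff.1 ha
    obtain ⟨hxJ, h⟩ := core _ hx ((Commute.refl g).inv_left.mul_left hgy.symm) fun q hq hgq =>
      hgq.inv_left.mul_left (hQ q hq hgq).symm
    have hyc : y • c = c := (smul_eq_iff y c).2 (Commute.refl y)
    rcases h with h | h | ⟨ht, h⟩
    · exact not_out_self (hc.J_le hc.z_mem) c (by rwa [inv_mul_eq_one.1 h] at hOut)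
    · obtain ⟨e, he, he16⟩ := hc.φ_surj 16
      have hge : Commute g e := E.comm_E e he (by rw [he16]; decide)
      have hec : e • c = c := (smul_eq_iff e c).2 (hQ e he hge)
      have hz : ¬ Out H₀ c z := by
        have hsq := sq_not_out (H₀ := H₀) hidx hec
        rwa [(q_ite hc he).1 (by rw [he16]; exact (pol_misc m).2.1)] at hsq
      have hzc : z • c = c := (smul_eq_iff z c).2 (hQ z hc.z_mem (z_comm hc E.mem))
      have hg : g = y * z := by
        rw [show y = g * z by rw [← h, mul_inv_cancel_left], mul_assoc, hc.sq, mul_one]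
      rw [hg, out_mul_iff hidx hyc hzc] at hOut
      exact hOut (iff_of_false (not_out_self (hc.J_le hc.z_mem) c) hz)
    · obtain ⟨hw, hwφ⟩ := E.succ ht
      have hgj : Commute g (g⁻¹ * y) := (Commute.refl g).inv_right.mul_right hgy
      have e : y * y = g * g * (g⁻¹ * y * (g⁻¹ * y)) := by
        rw [← mul_assoc, mul_assoc g g (g⁻¹ * y), hgj.eq, ← mul_assoc g, mul_inv_cancel_left]
        group
      have hjj : φ (g⁻¹ * y * (g⁻¹ * y)) = 0 := by
        rw [hc.φ_mul _ hxJ _ hxJ, H50.U6C.vadd_self]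
      have := congrArg φ e
      rw [hy1, φ_one hc, hc.φ_mul _ hw _ (J.mul_mem hxJ hxJ), hwφ, hjj, vadd_zero'] at this
      have hq := plv_ne_zero hc ht
      rw [← this] at hq
      revert hq
      cases m <;> decide

variable [Finite G]

theorem odd_fixed (hc : FixCtx z J H₀ m t φ ρ) (hr : refl8 3 ∉ oGroup)
    (E : Elt z J H₀ m t φ ρ g) :
    Odd (Nat.card {c : G ⧸ (Subgroup.centralizer ({z} : Set G)) // g • c = c ∧ Out H₀ c g}) := by
  classical
  haveI : Fintype (G ⧸ (Subgroup.centralizer ({z} : Set G))) := Fintype.ofFinite _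
  set c₀ := ((1 : G) : G ⧸ (Subgroup.centralizer ({z} : Set G))) with hc₀
  have hidx := relIndex_two hc
  have hfix : ∀ a ∈ Subgroup.centralizer ({z} : Set G), a • c₀ = c₀ := fun a ha =>
    (smul_eq_iff a c₀).2 (by rw [hc₀, pnt_one]; exact z_comm hc ha)
  set Q := J ⊓ Subgroup.centralizer ({g} : Set G) with hQ
  have h2 : 2 ∣ Nat.card {c : G ⧸ (Subgroup.centralizer ({z} : Set G)) //
      c ≠ c₀ ∧ g • c = c ∧ Out H₀ c g} := by
    refine dvd_card Q _ 2 ?_ ?_
    · rintro q ⟨hq, hqg⟩ c ⟨h1, h2, h3⟩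
      have hqg' : Commute q g := Subgroup.mem_centralizer_singleton_iff.1 hqg
      refine ⟨fun h => h1 ?_, ?_, (out_smul_comm hidx hc.le_cent hqg' c).2 h3⟩
      · rw [← inv_smul_smul q c, h]
        exact hfix _ (J_cent hc (J.inv_mem hq))
      · rw [← mul_smul, ← hqg'.eq, mul_smul, h2]
    · rintro c ⟨h1, h2, h3⟩
      exact orbit_even (n := 9) (hc.card_J' inf_le_left) c (fixed_base hc hr E h1 h2 h3)
  have hbase : g • c₀ = c₀ ∧ Out H₀ c₀ g :=
    ⟨hfix g E.mem, fun h => E.not_mem ((conj_mem_iff hidx hc.le_cent (k := c₀.out) (by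
      obtain ⟨k, hk⟩ := QuotientGroup.mk_out_eq_mul (Subgroup.centralizer ({z} : Set G)) 1
      rw [hc₀, hk, one_mul]
      exact k.2)).1 h)⟩
  rw [Nat.card_eq_fintype_card, Fintype.card_subtype] at h2 ⊢
  rw [show (Finset.univ.filter fun c => c ≠ c₀ ∧ g • c = c ∧ Out H₀ c g) =
    (Finset.univ.filter fun c => g • c = c ∧ Out H₀ c g).erase c₀ by
      ext c; simp [Finset.mem_erase]] at h2
  rw [← Finset.card_erase_add_one (Finset.mem_filter.2 ⟨Finset.mem_univ c₀, hbase⟩)]
  exact (even_iff_two_dvd.2 h2).add_one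

theorem eight_dvd (hc : FixCtx z J H₀ m t φ ρ) :
    8 ∣ Nat.card {c : G ⧸ (Subgroup.centralizer ({z} : Set G)) // z • c = c ∧ Out H₀ c z} := by
  classical
  have hidx := relIndex_two hc
  refine dvd_card J _ 8 ?_ ?_
  · rintro q hq c ⟨h1, h2⟩
    have hqz := z_comm hc (J_cent hc hq)
    refine ⟨?_, (out_smul_comm hidx hc.le_cent hqz c).2 h2⟩
    rw [← mul_smul, ← hqz.eq, mul_smul, h1]
  · rintro c ⟨h1, h2⟩
    choose j hj hjv using fun i => hc.φ_surj (five i)
    have hinj : Function.Injective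
        (fun i : Fin 5 => (⟨j i • c, ⟨⟨j i, hj i⟩, rfl⟩⟩ : orbit J c)) := by
      intro i k h
      by_contra hik
      have h' : j i • c = j k • c := congrArg Subtype.val h
      have hfix : ((j i)⁻¹ * j k) • c = c := by rw [mul_smul, ← h', inv_smul_smul]
      refine (sq_not_out hidx hfix) ?_
      rwa [(q_ite hc (J.mul_mem (J.inv_mem (hj i)) (hj k))).1 (by
        rw [hc.φ_mul _ (J.inv_mem (hj i)) _ (hj k), φ_inv hc (hj i), hjv, hjv]
        exact five_sing m i k hik)]
    have h5 := Nat.card_le_card_of_injective _ hinj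
    rw [Nat.card_eq_fintype_card, Fintype.card_fin] at h5
    rw [Nat.card_congr (orbitEquivQuotientStabilizer J c)] at h5 ⊢
    have hd : Nat.card (↥J ⧸ stabilizer J c) ∣ 2 ^ 9 := by
      rw [← hc.card_J]; exact Subgroup.index_dvd_card (stabilizer J c)
    obtain ⟨i, -, hi⟩ := (Nat.dvd_prime_pow Nat.prime_two).1 hd
    rw [hi] at h5 ⊢
    rcases i with _ | _ | _ | i
    · omega
    · omega
    · omega
    · exact ⟨2 ^ i, by rw [pow_succ, pow_succ, pow_succ]; ring⟩

theorem dvd_four_power (hc : FixCtx z J H₀ m t φ ρ) (E : Elt z J H₀ m t φ ρ g) :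
    8 ∣ Nat.card {c : G ⧸ (Subgroup.centralizer ({z} : Set G)) //
      g ^ 2 • c ≠ c ∧ g ^ 4 • c = c ∧ Out H₀ c (g ^ 4)} := by
  have hidx := relIndex_two hc
  have h4 : g ^ 4 = g * g * (g * g) := by simp [pow_succ, mul_assoc]
  by_cases ht : t = 0
  · have e : g ^ 4 = 1 := by
      rw [h4]; rcases (E.zero ht).1 with h | h <;> rw [h]
      · rw [mul_one]
      · exact hc.sq
    haveI : IsEmpty {c : G ⧸ (Subgroup.centralizer ({z} : Set G)) //
        g ^ 2 • c ≠ c ∧ g ^ 4 • c = c ∧ Out H₀ c (g ^ 4)} :=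
      ⟨fun ⟨c, _, _, h⟩ => by
        rw [e] at h
        exact not_out_one h⟩
    rw [Nat.card_of_isEmpty]
    exact dvd_zero _
  · obtain ⟨hw, hwφ⟩ := E.succ ht
    have e : g ^ 4 = z := by
      rw [h4]
      exact (q_ite hc hw).1 (by rw [hwφ]; exact plv_ne_zero hc ht)
    refine (eight_dvd hc).trans (dvd_of_eq (Nat.card_congr (Equiv.subtypeEquivRight fun c => ?_)))
    rw [e, pow_two]
    refine ⟨fun h => ⟨fun hw' => ?_, h⟩, fun h => h.2⟩
    have hsq := sq_not_out (H₀ := H₀) hidx hw'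
    rw [h4.symm.trans e] at hsq
    exact hsq h.2

theorem dvd_square_zero (hc : FixCtx z J H₀ m t φ ρ) (E : Elt z J H₀ m t φ ρ g) (ht : t = 0) :
    4 ∣ Nat.card {c : G ⧸ (Subgroup.centralizer ({z} : Set G)) //
      g • c ≠ c ∧ g ^ 2 • c = c ∧ Out H₀ c (g ^ 2)} := by
  have hidx := relIndex_two hc
  rcases (E.zero ht).1 with e | e
  · haveI : IsEmpty {c : G ⧸ (Subgroup.centralizer ({z} : Set G)) //
        g • c ≠ c ∧ g ^ 2 • c = c ∧ Out H₀ c (g ^ 2)} :=
      ⟨fun ⟨c, _, _, h⟩ => by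
        rw [pow_two, e] at h
        exact not_out_one h⟩
    rw [Nat.card_of_isEmpty]
    exact dvd_zero _
  · refine (Nat.dvd_trans ⟨2, rfl⟩ (eight_dvd hc)).trans
      (dvd_of_eq (Nat.card_congr (Equiv.subtypeEquivRight fun c => ?_)))
    rw [pow_two, e]
    refine ⟨fun h => ⟨fun hg => ?_, h⟩, fun h => h.2⟩
    have hsq := sq_not_out (H₀ := H₀) hidx hg
    rw [e] at hsq
    exact hsq h.2

end H64.U6E
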