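import Cfsg.Agent.H35.U6E.Pair
import Cfsg.Agent.H35.U6E.Ext
import Cfsg.Agent.H64.U6E.Tab
import Cfsg.Agent.H64.U6E.Act

/-!
An outer element with known action on the core (helper64).
-/

set_option autoImplicit false
set_option maxRecDepth 100000
set_option linter.unusedSectionVars false

namespace H64.U6E

open H38.U6C H50.U6C H35.U6E

universe u

variable {G : Type u} [Group G] {z : G} {J H₀ : Subgroup G} {m : Bool} {t : Fin 4} {φ : G → V}
  {ρ : ↥(Subgroup.centralizer ({z} : Set G)) →* Equiv.Perm V}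

section basics

variable (hc : FixCtx z J H₀ m t φ ρ)

include hc

theorem J_cent : J ≤ Subgroup.centralizer ({z} : Set G) := hc.J_le.trans hc.le_cent

theorem φ_one : φ 1 = 0 := (hc.φ_ker 1 J.one_mem).2 (Or.inl rfl)

theorem φ_z : φ z = 0 := (hc.φ_ker z hc.z_mem).2 (Or.inr rfl)

theorem φ_inv {a : G} (ha : a ∈ J) : φ a⁻¹ = φ a := by
  have h := hc.φ_mul a ha a⁻¹ (J.inv_mem ha)
  rw [mul_inv_cancel, φ_one hc] at h
  exact (eq_of_vadd_zero h.symm).symm

theorem z_comm {x : G} (hx : x ∈ Subgroup.centralizer ({z} : Set G)) : Commute x z :=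
  Subgroup.mem_centralizer_singleton_iff.1 hx

theorem mul_z_z (a : G) : a * z * z = a := by rw [mul_assoc, hc.sq, mul_one]

theorem eq_or {a b : G} (ha : a ∈ J) (hb : b ∈ J) (h : φ a = φ b) : b = a ∨ b = a * z := by
  have h0 : φ (a⁻¹ * b) = 0 := by rw [hc.φ_mul _ (J.inv_mem ha) _ hb, φ_inv hc ha, h, vadd_self]
  rcases (hc.φ_ker _ (J.mul_mem (J.inv_mem ha) hb)).1 h0 with e | e
  · exact Or.inl (inv_mul_eq_one.1 e).symm
  · exact Or.inr (by rw [← e, mul_inv_cancel_left])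

theorem comm_congr {g a b : G} (hg : g ∈ Subgroup.centralizer ({z} : Set G)) (ha : a ∈ J)
    (hb : b ∈ J) (h : φ a = φ b) (hga : Commute g a) : Commute g b := by
  rcases eq_or hc ha hb h with rfl | rfl
  · exact hga
  · exact hga.mul_right (z_comm hc hg)

theorem comm_iff {a b : G} (ha : a ∈ J) (hb : b ∈ J) :
    Commute a b ↔ pol8 m (φ a) (φ b) = false := by
  have h := hc.φ_comm a ha b hb
  constructor
  · intro he
    by_contra hp
    rw [Bool.not_eq_false] at hp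
    rw [if_pos hp, he.eq] at h
    exact hc.ne_one (mul_eq_left.1 h.symm)
  · intro hp
    rw [hp, if_neg (by decide), mul_one] at h
    exact h

theorem conj_pol {a b : G} (ha : a ∈ J) (hb : b ∈ J) :
    a * b * a⁻¹ = b * if pol8 m (φ a) (φ b) then z else 1 := by
  rw [hc.φ_comm a ha b hb]
  have hz := z_comm hc (J_cent hc ha)
  split_ifs with h
  · rw [mul_assoc (b * a), hz.inv_left.symm.eq, ← mul_assoc, mul_inv_cancel_right]
  · rw [mul_one, mul_one, mul_inv_cancel_right]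

theorem φ_conj {x j : G} (hx : x ∈ Subgroup.centralizer ({z} : Set G)) (hj : j ∈ J) :
    φ (x * j * x⁻¹) = ρ ⟨x, hx⟩ (φ j) := hc.ρ_φ ⟨x, hx⟩ j hj

theorem ρ_add (x : ↥(Subgroup.centralizer ({z} : Set G))) (a b : V) :
    ρ x (vadd a b) = vadd (ρ x a) (ρ x b) := by
  obtain ⟨p, hp, rfl⟩ := hc.φ_surj a
  obtain ⟨q, hq, rfl⟩ := hc.φ_surj b
  rw [← hc.φ_mul p hp q hq, ← hc.ρ_φ x _ (J.mul_mem hp hq), ← hc.ρ_φ x _ hp, ← hc.ρ_φ x _ hq,
    ← hc.φ_mul _ (hc.conj_mem _ x.2 p hp) _ (hc.conj_mem _ x.2 q hq)]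
  congr 1
  group

theorem q_ite {a : G} (ha : a ∈ J) : (q8 m (φ a) = true → a * a = z) ∧
    (q8 m (φ a) = false → a * a = 1) :=
  ⟨fun h => by rw [hc.φ_sq a ha, if_pos h], fun h => by rw [hc.φ_sq a ha, h, if_neg (by decide)]⟩

theorem q_false {a : G} (ha : a ∈ J) (h : a * a = 1) : q8 m (φ a) = false := by
  cases hq : q8 m (φ a)
  · rfl
  · exact absurd ((q_ite hc ha).1 hq ▸ h) hc.ne_one

theorem ρ_q (x : ↥(Subgroup.centralizer ({z} : Set G))) (a : V) :
    q8 m (ρ x a) = q8 m a := by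
  obtain ⟨p, hp, rfl⟩ := hc.φ_surj a
  have hm := hc.conj_mem _ x.2 p hp
  have e : (x : G) * p * (x : G)⁻¹ * ((x : G) * p * (x : G)⁻¹) = x * (p * p) * (x : G)⁻¹ := by
    group
  rw [← hc.ρ_φ x p hp]
  cases hq : q8 m (φ p)
  · refine q_false hc hm ?_
    rw [e, (q_ite hc hp).2 hq, mul_one, mul_inv_cancel]
  · cases hq2 : q8 m (φ ((x : G) * p * (x : G)⁻¹))
    · have h := (q_ite hc hm).2 hq2
      rw [e, (q_ite hc hp).1 hq, (z_comm hc x.2).eq, mul_inv_cancel_right] at h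
      exact absurd h hc.ne_one
    · rfl

theorem ρ_fix_of_comm {x j : G} (hx : x ∈ Subgroup.centralizer ({z} : Set G)) (hj : j ∈ J)
    (h : Commute x j) : ρ ⟨x, hx⟩ (φ j) = φ j := by
  rw [← φ_conj hc hx hj, h.eq, mul_inv_cancel_right]

theorem comm5 {x a : G} (hx : x ∈ Subgroup.centralizer ({z} : Set G)) (h5 : x ^ 5 = 1)
    (ha : a ∈ J) (h : ρ ⟨x, hx⟩ (φ a) = φ a) : Commute x a := by
  rcases eq_or hc ha (hc.conj_mem x hx a ha) (by rw [φ_conj hc hx ha, h]) with e | e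
  · exact mul_inv_eq_iff_eq_mul.1 e
  · exfalso
    have hz := z_comm hc hx
    have e' : x * (a * z) * x⁻¹ = a := by
      rw [← mul_assoc x, mul_assoc (x * a), hz.inv_left.symm.eq, ← mul_assoc, e, mul_z_z hc]
    have e5 : x ^ 5 * a * (x ^ 5)⁻¹ = x * (x * (x * (x * (x * a * x⁻¹) * x⁻¹) * x⁻¹) * x⁻¹) * x⁻¹ := by
      simp only [pow_succ, pow_zero, one_mul]
      group
    rw [h5, e, e', e, e', e, inv_one, mul_one, one_mul] at e5
    exact hc.ne_one (mul_eq_left.1 e5.symm)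

theorem relIndex_two : H₀.relIndex (Subgroup.centralizer ({z} : Set G)) = 2 := by
  have := Subgroup.card_mul_index (H₀.subgroupOf (Subgroup.centralizer ({z} : Set G)))
  rw [Nat.card_congr (Subgroup.subgroupOfEquivOfLe hc.le_cent).toEquiv, hc.card_H₀,
    hc.card_cent] at this
  show (H₀.subgroupOf (Subgroup.centralizer ({z} : Set G))).index = 2
  omega

theorem inner_range {x : G} (hx : x ∈ H₀) : ρ ⟨x, hc.le_cent hx⟩ ∈ oGroup :=
  hc.range₀ ▸ ⟨⟨x, hc.le_cent hx⟩, hx, rfl⟩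

end basics

/-- An outer element with known action on the core. -/
structure Elt (z : G) (J H₀ : Subgroup G) (m : Bool) (t : Fin 4) (φ : G → V)
    (ρ : ↥(Subgroup.centralizer ({z} : Set G)) →* Equiv.Perm V) (g : G) : Prop where
  mem : g ∈ Subgroup.centralizer ({z} : Set G)
  not_mem : g ∉ H₀
  rho : ρ ⟨g, mem⟩ = outP t
  pow8 : g ^ 8 = 1
  comm_E : ∀ j ∈ J, InE (φ j) → Commute g j
  flip : ∀ j ∈ J, φ j = 3 → g * j * g⁻¹ = j * z
  zero : t = 0 → (g * g = 1 ∨ g * g = z) ∧ ∀ j ∈ J, (φ j).val % 64 = 0 → Commute g j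
  succ : t ≠ 0 → g * g ∈ J ∧ φ (g * g) = plv t

theorem exists_elt [Finite G] (hc : FixCtx z J H₀ m t φ ρ) : ∃ g, Elt z J H₀ m t φ ρ g := by
  obtain ⟨c', γ', hcn, hγH, hγ5', hcγ', hρc, hργ⟩ := H35.U6E.pair hc
  obtain ⟨c, hcC⟩ := c'
  obtain ⟨γ, hγC⟩ := γ'
  have hγ5 : γ ^ 5 = 1 := congrArg Subtype.val hγ5'
  have hcγ : Commute c γ := congrArg Subtype.val hcγ'
  have hgfix : ∀ v : V, v.val % 64 < 4 → gam8 v = v := fun v hv => (plane_facts.2.2.2.1 v).2 hv
  -- elements over the fixed space of `γ` commute with it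
  have hγF : ∀ j ∈ J, (φ j).val % 64 < 4 → Commute γ j := fun j hj hv =>
    comm5 hc hγC hγ5 hj (by rw [hργ]; exact hgfix _ hv)
  have hρc2 : ρ ⟨c * c, (Subgroup.centralizer _).mul_mem hcC hcC⟩ = 1 := by
    rw [show (⟨c * c, _⟩ : ↥(Subgroup.centralizer ({z} : Set G))) = ⟨c, hcC⟩ * ⟨c, hcC⟩ from rfl,
      map_mul, hρc]
    exact Equiv.ext fun v => out_invol t v
  have hc2J : c * c ∈ J := (hc.ρ_ker ⟨c * c, _⟩).1 hρc2
  have hv1 : (φ (c * c)).val % 64 < 4 := by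
    refine (plane_facts.2.2.2.1 _).1 ?_
    rw [← hργ]
    exact ρ_fix_of_comm hc hγC hc2J (hcγ.symm.mul_right hcγ.symm)
  have hv2 : outP t (φ (c * c)) = φ (c * c) := by
    rw [← hρc]
    exact ρ_fix_of_comm hc hcC hc2J ((Commute.refl c).mul_right (Commute.refl c))
  have hv3 : ∀ u : V, u.val % 64 < 4 → outP t u = u → pol8 m (φ (c * c)) u = false := by
    intro u _ hu
    obtain ⟨j, hj, rfl⟩ := hc.φ_surj u
    refine (comm_iff hc hc2J hj).1 ?_
    rcases eq_or hc hj (hc.conj_mem c hcC j hj) (by rw [φ_conj hc hcC hj, hρc, hu]) with e | e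
    · have hcj : Commute c j := mul_inv_eq_iff_eq_mul.1 e
      exact hcj.mul_left hcj
    · have hcj : c * j = j * z * c := mul_inv_eq_iff_eq_mul.1 e
      show c * c * j = j * (c * c)
      rw [mul_assoc, hcj, ← mul_assoc, ← mul_assoc, hcj, mul_assoc (j * z) c z,
        (z_comm hc hcC).eq, ← mul_assoc, mul_z_z hc, mul_assoc]
  obtain ⟨x, hx, hxe⟩ := sq_shift m t hc.plane _ hv1 hv2 hv3
  obtain ⟨a, ha, rfl⟩ := hc.φ_surj x
  -- square of an outer element times one of the core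
  have hsq : ∀ d a : G, ∀ hd : d ∈ Subgroup.centralizer ({z} : Set G), ρ ⟨d, hd⟩ = outP t →
      a ∈ J → d * d ∈ J → d * a * (d * a) ∈ J ∧
      φ (d * a * (d * a)) = vadd (φ (d * d)) (vadd (outP t (φ a)) (φ a)) := by
    intro d a hd hρd ha hdd
    have hd' : d⁻¹ ∈ Subgroup.centralizer ({z} : Set G) := (Subgroup.centralizer _).inv_mem hd
    have hρd' : ρ ⟨d⁻¹, hd'⟩ = outP t := by
      rw [show (⟨d⁻¹, hd'⟩ : ↥(Subgroup.centralizer ({z} : Set G))) = ⟨d, hd⟩⁻¹ from rfl,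
        map_inv, hρd]
      exact inv_eq_of_mul_eq_one_right (Equiv.ext fun v => out_invol t v)
    have e : d * a * (d * a) = d * d * (d⁻¹ * a * d⁻¹⁻¹ * a) := by group
    have hm := hc.conj_mem _ hd' a ha
    rw [e]
    refine ⟨J.mul_mem hdd (J.mul_mem hm ha), ?_⟩
    rw [hc.φ_mul _ hdd _ (J.mul_mem hm ha), hc.φ_mul _ hm _ ha, φ_conj hc hd' ha, hρd']
  -- the adjusted element
  set d := c * a with hd
  have hdC : d ∈ Subgroup.centralizer ({z} : Set G) :=
    (Subgroup.centralizer _).mul_mem hcC (J_cent hc ha)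
  have hρd : ρ ⟨d, hdC⟩ = outP t := by
    rw [show (⟨d, hdC⟩ : ↥(Subgroup.centralizer ({z} : Set G))) =
      ⟨c, hcC⟩ * ⟨a, J_cent hc ha⟩ from rfl, map_mul, hρc, (hc.ρ_ker ⟨a, _⟩).2 ha, mul_one]
  have hdn : d ∉ H₀ := fun h => hcn ((H₀.mul_mem_cancel_right (hc.J_le ha)).1 h)
  obtain ⟨hd2J, hd2φ⟩ := hsq c a hcC hρc ha hc2J
  rw [hxe, vadd_self] at hd2φ
  have hd2 : d * d = 1 ∨ d * d = z := (hc.φ_ker _ hd2J).1 hd2φ
  have hdγ : Commute d γ := hcγ.mul_left (hγF a ha hx).symm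
  -- it centralises the preimage of `E`
  have hdE : ∀ j ∈ J, InE (φ j) → Commute d j := by
    intro j hj hE
    obtain ⟨x, hxE, hxe⟩ := gam_onto _ hE
    obtain ⟨b, hb, rfl⟩ := hc.φ_surj x
    have hm := hc.conj_mem γ hγC b hb
    refine comm_congr hc hdC (J.mul_mem hm hb) hj ?_ ?_
    · rw [hc.φ_mul _ hm _ hb, φ_conj hc hγC hb, hργ, ← gam_eq, hxe]
    rcases eq_or hc hb (hc.conj_mem d hdC b hb)
      (by rw [φ_conj hc hdC hb, hρd, out_fixE t _ hxE]) with e | e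
    · have : Commute d b := mul_inv_eq_iff_eq_mul.1 e
      exact ((hdγ.mul_right this).mul_right hdγ.inv_right).mul_right this
    · show d * (γ * b * γ⁻¹ * b) = γ * b * γ⁻¹ * b * d
      rw [← mul_inv_eq_iff_eq_mul, show d * (γ * b * γ⁻¹ * b) * d⁻¹ =
        d * γ * d⁻¹ * (d * b * d⁻¹) * (d * γ * d⁻¹)⁻¹ * (d * b * d⁻¹) by group,
        mul_inv_eq_iff_eq_mul.2 hdγ.eq, e]
      have h1 := (z_comm hc hγC).inv_left
      have h2 := z_comm hc (J_cent hc hb)
      rw [← mul_assoc γ, mul_assoc (γ * b), ← h1.eq, ← mul_assoc, ← mul_assoc,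
        mul_assoc (γ * b * γ⁻¹) z b, ← h2.eq, ← mul_assoc, mul_z_z hc]
  -- it moves the lifts of `3`
  have hflip : ∀ j ∈ J, φ j = 3 → d * j * d⁻¹ = j * z := by
    intro j hj h3
    obtain ⟨s, hs, hs1⟩ := hc.φ_surj 1
    have hm := hc.conj_mem d hdC s hs
    have hφm : φ (d * s * d⁻¹) = 2 := by rw [φ_conj hc hdC hs, hρd, hs1, (out_one t).1]
    have hdds : d * (d * s * d⁻¹) * d⁻¹ = s := by
      rw [show d * (d * s * d⁻¹) * d⁻¹ = d * d * s * (d * d)⁻¹ by group]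
      rcases hd2 with e | e <;> rw [e]
      · rw [inv_one, mul_one, one_mul]
      · rw [← (z_comm hc (J_cent hc hs)).eq, mul_inv_cancel_right]
    have e : d * (d * s * d⁻¹ * s) * d⁻¹ = d * s * d⁻¹ * s * z := by
      rw [show d * (d * s * d⁻¹ * s) * d⁻¹ =
        d * (d * s * d⁻¹) * d⁻¹ * (d * s * d⁻¹) by group, hdds,
        hc.φ_comm s hs _ hm, hφm, hs1, pol8_comm, (pol_misc m).1, if_pos rfl]
    rcases eq_or hc (J.mul_mem hm hs) hj
      (by rw [hc.φ_mul _ hm _ hs, hφm, hs1, h3]; rfl) with rfl | rfl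
    · exact e
    · rw [show d * (d * s * d⁻¹ * s * z) * d⁻¹ =
        d * (d * s * d⁻¹ * s) * d⁻¹ * (d * z * d⁻¹) by group, e,
        mul_inv_eq_iff_eq_mul.2 (z_comm hc hdC).eq]
  -- multiply by an element over the plane
  have build : ∀ a ∈ J, (φ a).val % 64 = 0 → ∀ hg : d * a ∈ Subgroup.centralizer ({z} : Set G),
      d * a ∉ H₀ ∧ ρ ⟨d * a, hg⟩ = outP t ∧
      (∀ j ∈ J, InE (φ j) → Commute (d * a) j) ∧
      (∀ j ∈ J, φ j = 3 → d * a * j * (d * a)⁻¹ = j * z) ∧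
      (d * a * (d * a) ∈ J ∧ φ (d * a * (d * a)) = vadd (outP t (φ a)) (φ a)) := by
    intro a ha hav hg
    refine ⟨fun h => hdn ((H₀.mul_mem_cancel_right (hc.J_le ha)).1 h), ?_, fun j hj hE => ?_,
      fun j hj h3 => ?_, ?_⟩
    · rw [show (⟨d * a, hg⟩ : ↥(Subgroup.centralizer ({z} : Set G))) =
        ⟨d, hdC⟩ * ⟨a, J_cent hc ha⟩ from rfl, map_mul, hρd, (hc.ρ_ker ⟨a, _⟩).2 ha, mul_one]
    · exact (hdE j hj hE).mul_left ((comm_iff hc ha hj).2 (pol_F_E m _ _ (by omega) hE))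
    · rw [show d * a * j * (d * a)⁻¹ = d * (a * j * a⁻¹) * d⁻¹ by group, conj_pol hc ha hj, h3,
        pol_plane_three m _ hav, if_neg (by decide), mul_one]
      exact hflip j hj h3
    · obtain ⟨h1, h2⟩ := hsq d a hdC hρd ha hd2J
      rw [hd2φ, H50.U6C.vadd_comm 0, vadd_zero'] at h2
      exact ⟨h1, h2⟩
  have hpow : ∀ g : G, g * g ∈ J → g ^ 8 = 1 := by
    intro g hg
    have h4 : g * g * (g * g) = 1 ∨ g * g * (g * g) = z := by
      rw [hc.φ_sq _ hg]; split_ifs <;> simp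
    rw [show g ^ 8 = g * g * (g * g) * (g * g * (g * g)) by simp [pow_succ, mul_assoc]]
    rcases h4 with e | e <;> rw [e]
    · rw [mul_one]
    · exact hc.sq
  by_cases ht : t = 0
  · subst ht
    classical
    obtain ⟨l1, hl1, hl1'⟩ := hc.φ_surj 64
    obtain ⟨l2, hl2, hl2'⟩ := hc.φ_surj 128
    obtain ⟨u, hu, hu1, hu2⟩ := plane_dual m (decide (¬ Commute d l1)) (decide (¬ Commute d l2))
    obtain ⟨b, hb, rfl⟩ := hc.φ_surj u
    have hg : d * b ∈ Subgroup.centralizer ({z} : Set G) :=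
      (Subgroup.centralizer _).mul_mem hdC (J_cent hc hb)
    obtain ⟨g1, g2, g3, g4, g5, g6⟩ := build b hb hu hg
    have fixl : ∀ l ∈ J, outP 0 (φ l) = φ l → pol8 m (φ b) (φ l) = decide (¬ Commute d l) →
        Commute (d * b) l := by
      intro l hl hfix hp
      show d * b * l = l * (d * b)
      rw [← mul_inv_eq_iff_eq_mul, show d * b * l * (d * b)⁻¹ =
        d * (b * l * b⁻¹) * d⁻¹ by group, conj_pol hc hb hl, hp]
      by_cases hdl : Commute d l
      · rw [if_neg (by simpa using hdl), mul_one]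
        exact mul_inv_eq_iff_eq_mul.2 hdl.eq
      · rw [if_pos (by simpa using hdl), show d * (l * z) * d⁻¹ = d * l * d⁻¹ * (d * z * d⁻¹) by
          group, mul_inv_eq_iff_eq_mul.2 (z_comm hc hdC).eq]
        rcases eq_or hc hl (hc.conj_mem d hdC l hl) (by rw [φ_conj hc hdC hl, hρd, hfix]) with e | e
        · exact absurd (mul_inv_eq_iff_eq_mul.1 e) hdl
        · rw [e, mul_z_z hc]
    have hfix : ∀ v : V, v.val % 64 = 0 → outP 0 v = v := by decide +kernel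
    refine ⟨d * b, hg, g1, g2, hpow _ g5, g3, g4, fun _ => ⟨?_, fun j hj hv => ?_⟩,
      fun h => absurd rfl h⟩
    · refine (hc.φ_ker _ g5).1 ?_
      rw [g6, hfix _ hu, vadd_self]
    · have c1 := fixl l1 hl1 (by rw [hl1']; exact hfix 64 (by decide)) (by rw [hl1', hu1])
      have c2 := fixl l2 hl2 (by rw [hl2']; exact hfix 128 (by decide)) (by rw [hl2', hu2])
      rcases plane_split _ hv with e | e | e | e
      · exact comm_congr hc hg J.one_mem hj (by rw [φ_one hc, e]) (Commute.one_right _)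
      · exact comm_congr hc hg hl1 hj (by rw [hl1', e]) c1
      · exact comm_congr hc hg hl2 hj (by rw [hl2', e]) c2
      · exact comm_congr hc hg (J.mul_mem hl1 hl2) hj
          (by rw [hc.φ_mul _ hl1 _ hl2, hl1', hl2', e]) (c1.mul_right c2)
  · obtain ⟨u, hu, hue⟩ := plane_step m t hc.plane ht
    obtain ⟨b, hb, rfl⟩ := hc.φ_surj u
    have hg : d * b ∈ Subgroup.centralizer ({z} : Set G) :=
      (Subgroup.centralizer _).mul_mem hdC (J_cent hc hb)
    obtain ⟨g1, g2, g3, g4, g5, g6⟩ := build b hb hu hg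
    exact ⟨d * b, hg, g1, g2, hpow _ g5, g3, g4, fun h => absurd h ht,
      fun _ => ⟨g5, g6.trans hue⟩⟩

end H64.U6E
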